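import Groth.Agent.Lib.Conormal92.Inject
import Groth.Agent.Lib.QCohChart.Free
import Groth.Agent.Lib.RegImmFlat.Basic
import Groth.Agent.H26.H1Quasi

/-!
# Conormal sequences for an `H₁`-regular immersion
-/

set_option autoImplicit false
set_option linter.style.haveILetI false
universe u

open CategoryTheory CategoryTheory.Limits AlgebraicGeometry TopologicalSpace Opposite OmegaSh
open Groth.Agent.Lib Groth.Agent.Lib.Synt92

namespace Groth.Agent.H2.H1Conormal

open Groth.Agent.Lib.Conormal92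

variable {X Y Z : Scheme.{u}}

/-- Relations of an `H₁`-regular sequence are trivial. -/
theorem isTriv {A : Type u} [CommRing A] {n : ℕ} {f : Fin n → A} (hf : CAlgX.IsH1Regular f)
    (z : Fin n → A) (hz : ∑ k, f k • z k = 0) : Groth.Agent.H26.Triv.IsTriv f z :=
  (Groth.Agent.H26.H1Quasi.isH1Regular_iff f).mp hf z (by
    rw [← hz]; exact Finset.sum_congr rfl fun k _ => by rw [smul_eq_mul, mul_comm])

/-- Coefficients of a combination lying in the square of the ideal lie in the ideal. -/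
theorem coeff_mem {A : Type u} [CommRing A] {n : ℕ} {f : Fin n → A} (hf : CAlgX.IsH1Regular f)
    (a : Fin n → A) (ha : ∑ k, a k * f k ∈ Ideal.span (Set.range f) ^ 2) (k : Fin n) :
    a k ∈ Ideal.span (Set.range f) := by
  obtain ⟨c, hc, hca⟩ : ∃ c : Fin n → A, (∀ l, c l ∈ Ideal.span (Set.range f)) ∧
      ∑ l, c l * f l = ∑ l, a l * f l := by
    rw [pow_two] at ha
    refine Submodule.mul_induction_on ha (fun x hx y hy => ?_) ?_
    · obtain ⟨c, rfl⟩ := Ideal.mem_span_range_iff_exists_fun.1 hy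
      exact ⟨fun l => x * c l, fun l => Ideal.mul_mem_right _ _ hx, by
        rw [Finset.mul_sum]; exact Finset.sum_congr rfl fun l _ => by ring⟩
    · rintro x y ⟨c, hc, rfl⟩ ⟨d, hd, rfl⟩
      exact ⟨c + d, fun l => add_mem (hc l) (hd l), by simp [add_mul, Finset.sum_add_distrib]⟩
  obtain ⟨s, hs⟩ := isTriv hf (a - c) (by
    simp only [Pi.sub_apply, smul_eq_mul, mul_sub, Finset.sum_sub_distrib]
    rw [sub_eq_zero]
    simp only [mul_comm (f _)]
    exact hca.symm)
  have := hs k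
  rw [Pi.sub_apply, sub_eq_iff_eq_add] at this
  rw [this]
  refine add_mem (Submodule.sum_mem _ fun l _ => ?_) (hc k)
  rw [smul_eq_mul]
  exact Ideal.mul_mem_right _ _ (Ideal.subset_span ⟨l, rfl⟩)

/-- An affine open on which the immersion is closed with ideal generated by an `H₁`-regular sequence. -/
def Good (i : Z ⟶ X) (U : X.Opens) : Prop :=
  IsAffineOpen U ∧ IsClosedImmersion (i ∣_ U) ∧
    ∃ (n : ℕ) (f : Fin n → Γ(X, U)), CAlgX.IsH1Regular f ∧
      RingHom.ker (i.app U).hom = Ideal.span (Set.range f)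

theorem good_basicOpen {i : Z ⟶ X} {U : X.Opens} (h : Good i U) (g : Γ(X, U)) :
    Good i (X.basicOpen g) := by
  obtain ⟨hU, hcl, n, f, hf, hker⟩ := h
  haveI := hU.isLocalization_basicOpen g
  have hflat : (X.presheaf.map (homOfLE (X.basicOpen_le g)).op).hom.Flat :=
    IsLocalization.flat (R := Γ(X, U)) Γ(X, X.basicOpen g) (Submonoid.powers g)
  refine ⟨hU.basicOpen g, KRImm.closed_of_le i (X.basicOpen_le g) hcl, n, _,
    RegImmFlat.h1_map _ hflat f hf, ?_⟩
  rw [KRImm.ker_app_basicOpen i hU hcl g, hker, Ideal.map_span, ← Set.range_comp]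
  rfl

theorem exists_good {i : Z ⟶ X} (hi : RegImm.IsRegularImmersion RegImm.Kind.h1 i) (z : Z) :
    ∃ U : X.Opens, Good i U ∧ i z ∈ U := by
  obtain ⟨⟨U, hU⟩, hz, hcl, rs, hrs, hker⟩ := hi.2 z
  exact ⟨U, ⟨hU, hcl, rs.length, rs.get, hrs, by
    rw [hker, Set.range_list_get]⟩, hz⟩

theorem isChart_of_good {i : Z ⟶ X} {U : X.Opens} (h : Good i U) : Affine.IsChart i U :=
  ⟨h.1, (KRImm.isAffine_preimage i h.1 h.2.1).1, (KRImm.isAffine_preimage i h.1 h.2.1).2⟩

/-- Around a point there is a chart of the outer immersion with good preimage. -/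
theorem exists_good_chart (i : Y ⟶ X) [IsImmersion i] {j : Z ⟶ Y} {U : Y.Opens} (hU : Good j U)
    {y : Y} (hy : y ∈ U) :
    ∃ V : X.Opens, Affine.IsChart i V ∧ i y ∈ V ∧ Good j (i ⁻¹ᵁ V) := by
  obtain ⟨W, hW, hWU⟩ := i.isEmbedding.isInducing.isOpen_iff.mp U.2
  have hpre : ∀ y' : Y, y' ∈ U ↔ i y' ∈ W := fun y' => (Set.ext_iff.mp hWU y').symm
  obtain ⟨V₀, hV₀, hyV₀, hV₀W⟩ := exists_isAffineOpen_mem_and_subset
    (U := (⟨W, hW⟩ : X.Opens) ⊓ i.coborderRange) (x := i y) ⟨(hpre y).mp hy, subset_coborder ⟨y, rfl⟩⟩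
  have hch := Affine.isChart_of_le_coborder i hV₀ fun x hx => (hV₀W hx).2
  have hle : i ⁻¹ᵁ V₀ ≤ U := fun y' hy' => (hpre y').mpr (hV₀W hy').1
  obtain ⟨h, hhV, hyh⟩ := hU.1.exists_basicOpen_le (⟨y, hyV₀⟩ : (i ⁻¹ᵁ V₀ : Y.Opens)) hy
  obtain ⟨a, ha⟩ := hch.surj (Y.presheaf.map (homOfLE hle).op h)
  have e : i ⁻¹ᵁ X.basicOpen a = Y.basicOpen h := by
    rw [Scheme.preimage_basicOpen, ha, Scheme.basicOpen_res]
    exact inf_eq_right.mpr hhV
  exact ⟨X.basicOpen a, Affine.isChart_of_le_coborder i (hV₀.basicOpen a)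
      (fun x hx => (hV₀W (X.basicOpen_le a hx)).2),
    (show y ∈ i ⁻¹ᵁ X.basicOpen a from e ▸ hyh), e ▸ good_basicOpen hU h⟩

theorem isChart_comp {i : Y ⟶ X} {j : Z ⟶ Y} {V : X.Opens} (hi : Affine.IsChart i V)
    (hj : Affine.IsChart j (i ⁻¹ᵁ V)) : Affine.IsChart (j ≫ i) V :=
  ⟨hi.affine, hj.affine_preimage, by
    rw [Scheme.Hom.comp_app]
    exact hj.surj.comp hi.surj⟩

variable {i : Y ⟶ X} {j : Z ⟶ Y} [QuasiCompact i] [QuasiCompact j]

omit [QuasiCompact j] in
/-- Every section of the pulled back conormal sheaf on a chart is the class of an ideal section. -/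
theorem exists_pullSect_eq {V : X.Opens} (hi : Affine.IsChart i V)
    (hj : Affine.IsChart j (i ⁻¹ᵁ V))
    (y : Γ((Scheme.Modules.pullback j).obj (Omega.conormal i), j ⁻¹ᵁ (i ⁻¹ᵁ V))) :
    ∃ k, pullSect j (Omega.conormal i) (i ⁻¹ᵁ V) (conormalSect i V k) = y := by
  haveI := Affine.isQCoh_conormal i
  let M := Omega.conormal i
  let U := i ⁻¹ᵁ V
  letI : Algebra Γ(Y, U) Γ(Z, j ⁻¹ᵁ U) := (j.appLE U (j ⁻¹ᵁ U) le_rfl).hom.toAlgebra
  letI : Module Γ(Y, U) Γ((Scheme.Modules.pullback j).obj M, j ⁻¹ᵁ U) :=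
    Module.compHom _ (j.appLE U (j ⁻¹ᵁ U) le_rfl).hom
  haveI : IsScalarTower Γ(Y, U) Γ(Z, j ⁻¹ᵁ U) Γ((Scheme.Modules.pullback j).obj M, j ⁻¹ᵁ U) :=
    IsScalarTower.of_algebraMap_smul fun _ _ => rfl
  have hb := CechRes.PullSec.isBaseChange_mu j M hi.affine_preimage hj.affine_preimage le_rfl
  obtain ⟨w, rfl⟩ := hb.equiv.surjective y
  have hs : Function.Surjective (algebraMap Γ(Y, U) Γ(Z, j ⁻¹ᵁ U)) := by
    show Function.Surjective (j.appLE U (j ⁻¹ᵁ U) le_rfl)
    rw [← Scheme.Hom.app_eq_appLE]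
    exact hj.surj
  obtain ⟨x, rfl⟩ := (Affine.one_tmul_spec hs (M := Γ(M, U))).1 w
  obtain ⟨k, rfl⟩ := (Affine.conormalSect_spec hi).1 x
  refine ⟨k, ?_⟩
  rw [hb.equiv_tmul, one_smul]
  show _ = ((Scheme.Modules.pullback j).obj M).presheaf.map (homOfLE le_rfl).op
    (pullSect j M (i ⁻¹ᵁ V) (conormalSect i V k))
  rw [Subsingleton.elim (homOfLE le_rfl).op (𝟙 (op (j ⁻¹ᵁ U)))]
  erw [CategoryTheory.Functor.map_id]
  rfl

omit [QuasiCompact j] in
theorem pullSect_eq_zero_of_mem_mul {V : X.Opens}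
    (hV : IsAffineOpen V) (k : Γ(ClSub.idealMod i.ker, V))
    (hk : idealSect i.ker V k ∈ RingHom.ker ((j ≫ i).app V).hom * RingHom.ker (i.app V).hom) :
    pullSect j (Omega.conormal i) (i ⁻¹ᵁ V) (conormalSect i V k) = 0 := by
  obtain ⟨k', hk', he⟩ : ∃ k', pullSect j (Omega.conormal i) (i ⁻¹ᵁ V) (conormalSect i V k') = 0 ∧
      idealSect i.ker V k' = idealSect i.ker V k := by
    refine Submodule.mul_induction_on hk (fun a ha b hb => ?_) ?_
    · obtain ⟨kb, rfl⟩ := (Affine.exists_idealSect_iff hV b).2 hb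
      refine ⟨a • kb, ?_, Kaehler.Conormal.idealSect_smul i V a kb⟩
      rw [Kaehler.Conormal.conormalSect_smul]
      refine (Scheme.Modules.Hom.app_smul
        ((Scheme.Modules.pullbackPushforwardAdjunction j).unit.app (Omega.conormal i))
        (i.app V a) (conormalSect i V kb)).trans ?_
      have h0 : j.app (i ⁻¹ᵁ V) (i.app V a) = 0 := ha
      show (j.app (i ⁻¹ᵁ V) (i.app V a) •
        pullSect j (Omega.conormal i) (i ⁻¹ᵁ V) (conormalSect i V kb) :
          Γ((Scheme.Modules.pullback j).obj (Omega.conormal i), j ⁻¹ᵁ (i ⁻¹ᵁ V))) = 0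
      rw [h0, zero_smul]
    · rintro x y ⟨kx, hx, rfl⟩ ⟨ky, hy, rfl⟩
      exact ⟨kx + ky, by rw [map_add, map_add, hx, hy, add_zero], map_add _ _ _⟩
  rwa [← Kaehler.Conormal.idealSect_injective i V he]

variable {φ₁ : (Scheme.Modules.pullback j).obj (Omega.conormal i) ⟶ Omega.conormal (j ≫ i)}

/-- The first conormal map is injective when the inner immersion is `H₁`-regular. -/
theorem mono_of_h1 [IsImmersion i] [IsImmersion j] (hφ₁ : IsConormalMap (j ≫ i) i (𝟙 X) j φ₁)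
    (hj : RegImm.IsRegularImmersion RegImm.Kind.h1 j) : Mono φ₁ := by
  haveI := Affine.isQCoh_conormal i
  haveI := Affine.isQCoh_conormal (j ≫ i)
  haveI : ((Scheme.Modules.pullback j).obj (Omega.conormal i)).IsQuasicoherent :=
    QCoh.Pullback.isQCoh_pullback j _
  refine QCohChart.Basic.mono_of_charts φ₁ fun z => ?_
  obtain ⟨U, hU, hzU⟩ := exists_good hj z
  obtain ⟨V, hV, hzV, hgood⟩ := exists_good_chart i hU hzU
  have hjV := isChart_of_good hgood
  obtain ⟨-, -, n, g, hg, hker⟩ := hgood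
  refine ⟨j ⁻¹ᵁ (i ⁻¹ᵁ V), hjV.affine_preimage, hzV, ?_⟩
  rw [injective_iff_map_eq_zero]
  intro y hy
  obtain ⟨k, rfl⟩ := exists_pullSect_eq hV hjV y
  have h1 := Kaehler.Conormal.app_eq hφ₁ V k
  rw [hy] at h1
  have h2 : conormalSect (j ≫ i) V (Kaehler.Conormal.liftSect hφ₁.1 V k) = 0 := by
    refine Eq.trans ?_ h1.symm
    exact (congr($((Omega.conormal (j ≫ i)).presheaf.map_id _) _)).symm
  replace h2 := ((Affine.conormalSect_spec (isChart_comp hV hjV)).2 _).1 h2
  have e : idealSect (j ≫ i).ker V (Kaehler.Conormal.liftSect hφ₁.1 V k) = idealSect i.ker V k :=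
    Kaehler.Conormal.idealSect_liftSect hφ₁.1 V k
  erw [e] at h2
  refine pullSect_eq_zero_of_mem_mul hV.affine k
    (Inject.mem_mul_of_mem_sq (i.app V).hom hV.surj g
      (fun z hz => isTriv hg z hz) ?_
      ((Affine.exists_idealSect_iff hV.affine _).1 ⟨k, rfl⟩) h2)
  rw [← hker]
  rfl

omit [QuasiCompact j] in
/-- The conormal sheaf of an `H₁`-regular immersion is finite locally free. -/
theorem isFinLocFree_of_h1 (hi : RegImm.IsRegularImmersion RegImm.Kind.h1 i) :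
    FlatMod.IsFinLocFree (Omega.conormal i) := by
  haveI := Affine.isQCoh_conormal i
  refine QCohChart.Free.isFinLocFree _ fun z => ?_
  obtain ⟨U, hU, hzU⟩ := exists_good hi z
  have hch := isChart_of_good hU
  obtain ⟨hUa, -, n, f, hf, hker⟩ := hU
  choose k hk using fun l => (Affine.exists_idealSect_iff (i := i) hUa (f l)).2
    (hker ▸ Ideal.subset_span ⟨l, rfl⟩)
  let ψ : (Fin n → Γ(Y, i ⁻¹ᵁ U)) →ₗ[Γ(Y, i ⁻¹ᵁ U)] Γ(Omega.conormal i, i ⁻¹ᵁ U) :=
    Fintype.linearCombination Γ(Y, i ⁻¹ᵁ U) fun l => conormalSect i U (k l)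
  have key : ∀ a : Fin n → Γ(X, U), ψ (fun l => i.app U (a l)) = conormalSect i U (∑ l, a l • k l) := by
    intro a
    rw [map_sum, Fintype.linearCombination_apply]
    exact Finset.sum_congr rfl fun l _ => (Kaehler.Conormal.conormalSect_smul i U (a l) (k l)).symm
  have hval : ∀ a : Fin n → Γ(X, U), idealSect i.ker U (∑ l, a l • k l) = ∑ l, a l * f l := by
    intro a
    rw [map_sum]
    exact Finset.sum_congr rfl fun l _ => by rw [Kaehler.Conormal.idealSect_smul, hk]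
  have hsurj : Function.Surjective ψ := by
    intro y
    obtain ⟨c, rfl⟩ := (Affine.conormalSect_spec hch).1 y
    obtain ⟨a, ha⟩ := Ideal.mem_span_range_iff_exists_fun.1
      (hker ▸ (Affine.exists_idealSect_iff hUa _).1 ⟨c, rfl⟩ : idealSect i.ker U c ∈ Ideal.span (Set.range f))
    refine ⟨fun l => i.app U (a l), ?_⟩
    rw [key]
    refine (Affine.conormalSect_eq_iff hch _ _).2 ?_
    rw [hval, ha, sub_self]
    exact Ideal.zero_mem _
  have hinj : Function.Injective ψ := by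
    refine (injective_iff_map_eq_zero ψ).2 fun v hv => ?_
    choose a ha using fun l => hch.surj (v l)
    rw [← show (fun l => i.app U (a l)) = v from funext ha, key, (Affine.conormalSect_spec hch).2,
      hval, hker] at hv
    funext l
    rw [← ha l]
    exact RingHom.mem_ker.1 (hker.ge (coeff_mem hf a hv l))
  let e := LinearEquiv.ofBijective ψ ⟨hinj, hsurj⟩
  exact ⟨i ⁻¹ᵁ U, hch.affine_preimage, hzU, Module.Finite.equiv e, Module.Projective.of_equiv e⟩

end Groth.Agent.H2.H1Conormal
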